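import Groth.Agent.H22Alg.PB.Local
import Groth.Agent.H22Alg.RegSheaf
import Groth.Agent.H16Derived.KFlat.FinLocFree

/-!
# Projective space is the projective bundle of a free module
-/

set_option autoImplicit false
set_option linter.style.haveILetI false

universe u

open CategoryTheory CategoryTheory.Limits AlgebraicGeometry Opposite TopologicalSpace
open Groth.Agent.H11Tilde Groth.Agent.H11Ample Groth.Agent.H22Alg.PB

noncomputable section

namespace Groth.Agent.H7Euler.Trivial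

variable {X P : Scheme.{u}} {π : P ⟶ X} {E : X.Modules} {O1 : P.Modules}
  {q : (Scheme.Modules.pullback π).obj E ⟶ O1} {U : X.Opens} {r : ℕ}
  (e : E.restrict U.ι ≅ FlatMod.freeMod (↑U : Scheme.{u}) (r + 1))

include e in
theorem gen_cover_of_epi (hL1 : PicF.IsInvertible O1) (hq : Epi q) (x : P) (hx : π x ∈ U) :
    ∃ (i : Fin (r + 1)), ∀ hxU : x ∈ π ⁻¹ᵁ U₀ U,
      Function.Bijective fun c : P.presheaf.stalk x => c • O1.presheaf.germ (π ⁻¹ᵁ U₀ U) x hxU (vP q e i) := by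
  let φ := (Scheme.Modules.pullbackPushforwardAdjunction π).homEquiv E O1 q
  have hφ : H11Sym.Spans φ := H11Sym.spans_of_epi hL1 φ (by rw [Equiv.symm_apply_apply]; exact hq)
  obtain ⟨g, hxg⟩ := hφ x
  have hxU : x ∈ π ⁻¹ᵁ U₀ U := (U.ι_image_top).ge hx
  let V := g.V ⊓ π ⁻¹ᵁ U₀ U
  have hxV : x ∈ V := ⟨hxg, hxU⟩
  let W := g.U ⊓ U₀ U
  obtain ⟨W', hW'⟩ : ∃ W' : (↑U : Scheme.{u}).Opens, U.ι ''ᵁ W' = W :=
    ⟨U.ι ⁻¹ᵁ W, by
      rw [Scheme.Hom.image_preimage_eq_opensRange_inf, Scheme.Opens.opensRange_ι]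
      exact inf_eq_right.2 fun y hy => (U.ι_image_top).le hy.2⟩
  -- a section is a combination of the basis
  obtain ⟨d, hd⟩ : ∃ d : Fin (r + 1) → Γ(X, W), E.presheaf.map (homOfLE (inf_le_left : W ≤ g.U)).op g.m =
      ∑ i, d i • E.presheaf.map (homOfLE (inf_le_right : W ≤ U₀ U)).op (bas e i) := by
    obtain ⟨b⟩ := H8Props.FinLocFree.exists_basis_of_chart E e
      (V := W) (fun y hy => (U.ι_image_top).le hy.2)
    have key : ∀ (W : X.Opens) (hW : U.ι ''ᵁ W' = W) (hWU : W ≤ U₀ U) (m : Γ(E, W)),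
        ∃ d : Fin (r + 1) → Γ(X, W), m = ∑ i, d i • E.presheaf.map (homOfLE hWU).op (bas e i) := by
      rintro _ rfl hWU m
      obtain ⟨c, hc⟩ := H29Fitt.exists_eq_sum_gen (r + 1) W' (e.hom.app W' (m : Γ(E.restrict U.ι, W')))
      refine ⟨fun i => (U.ι.appIso W').inv (c i), ?_⟩
      have h1 := congrArg (e.inv.app W') hc
      rw [map_sum] at h1
      refine Eq.trans ?_ (Eq.trans h1.symm (Finset.sum_congr rfl fun i _ => ?_))
      · exact congr($(congrArg (fun k => Scheme.Modules.Hom.app k W') e.hom_inv_id) m).symm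
      · rw [Scheme.Modules.Hom.app_smul, ← H29Fitt.res_gen (r + 1) i (le_top : W' ≤ ⊤), app_map_apply]
        rfl
    exact key W hW' _ _
  let O := P.presheaf.stalk x
  let G : Γ(O1, V) → O1.presheaf.stalk x := O1.presheaf.germ V x hxV
  let s : Fin (r + 1) → O1.presheaf.stalk x := fun i => O1.presheaf.germ (π ⁻¹ᵁ U₀ U) x hxU (vP q e i)
  let g₀ : O1.presheaf.stalk x := O1.presheaf.germ (π ⁻¹ᵁ g.U) x (g.le hxg) (H11Sym.uSec φ g.m)
  have hgen : Function.Bijective fun c : O => c • g₀ := by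
    have h := g.gen x hxg
    rwa [H11Proj.resS, TopCat.Presheaf.germ_res_apply] at h
  have hsum : g₀ = ∑ i, P.presheaf.germ (π ⁻¹ᵁ W) x ⟨g.le hxg, hxU⟩ (π.app W (d i)) • s i := by
    have h1 := congrArg (fun m => O1.presheaf.germ (π ⁻¹ᵁ W) x ⟨g.le hxg, hxU⟩ (H11Sym.uSec φ m)) hd
    simp only [H11Sym.uSec_res, map_sum] at h1
    rw [H11Proj.resS, TopCat.Presheaf.germ_res_apply] at h1
    refine h1.trans ((map_sum (O1.presheaf.germ (π ⁻¹ᵁ W) x ⟨g.le hxg, hxU⟩).hom _ _).trans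
      (Finset.sum_congr rfl fun i _ => ?_))
    rw [Scheme.Modules.Hom.app_smul]
    refine (H06Mod.germ_smul O1 (x := x) (π ⁻¹ᵁ W) ⟨g.le hxg, hxU⟩ (π.app W (d i)) _).trans ?_
    refine congrArg (_ • ·) ?_
    rw [app_map_apply φ]
    refine (TopCat.Presheaf.germ_res_apply _ _ _ _ _).trans ?_
    exact congrArg _ (H11Sym.homEquiv_app_apply π q (U₀ U) (bas e i))
  choose a ha using fun i => hgen.2 (s i)
  have h1 : (∑ i, P.presheaf.germ (π ⁻¹ᵁ W) x ⟨g.le hxg, hxU⟩ (π.app W (d i)) * a i) = 1 := by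
    refine hgen.1 ?_
    show _ • g₀ = (1 : O) • g₀
    rw [one_smul, Finset.sum_smul]
    refine Eq.trans (Finset.sum_congr rfl fun i _ => ?_) hsum.symm
    rw [mul_smul]
    exact congrArg (_ • ·) (ha i)
  obtain ⟨i, hi⟩ : ∃ i, IsUnit (a i) := by
    by_contra hne
    push Not at hne
    have : (1 : O) ∈ IsLocalRing.maximalIdeal O :=
      h1 ▸ Ideal.sum_mem _ fun i _ => Ideal.mul_mem_left _ _ (hne i)
    exact (IsLocalRing.maximalIdeal.isMaximal O).ne_top ((Ideal.eq_top_iff_one _).2 this)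
  refine ⟨i, fun _ => ?_⟩
  obtain ⟨b, hb⟩ := hi
  have hfun : (fun c : O => c • s i) = (fun c : O => c • g₀) ∘ fun c => c * b := by
    funext c
    show c • s i = (c * ↑b) • g₀
    rw [← ha i, hb, mul_smul]
  show Function.Bijective fun c : O => c • s i
  rw [hfun]
  exact hgen.comp (Units.mulRight_bijective b)


theorem epi_and_univ (hπU : ∀ x : P, π x ∈ U) {T : Scheme.{u}} (hX : ∀ x : X, x ∈ U) (g : T ⟶ X) {L : T.Modules}
    (hL : PicF.IsInvertible L) (s : (Scheme.Modules.pullback g).obj E ⟶ L) (hs : Epi s) :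
    ∃ (g' : T ⟶ (↑U : Scheme.{u})) (w : Fin (r + 1) → Γ(L, ⊤)), g' ≫ U.ι = g ∧ (∀ x, ∃ i, x ∈ gen L (w i)) ∧
      ∀ i, ((Scheme.Modules.pullbackPushforwardAdjunction g).homEquiv E L s).app (U₀ U) (bas e i) =
        L.presheaf.map (homOfLE (le_top : g ⁻¹ᵁ U₀ U ≤ ⊤)).op (w i) := by
  have htop : (⊤ : T.Opens) ≤ g ⁻¹ᵁ U₀ U := fun x _ => (U.ι_image_top).ge (hX (g x))
  let g' : T ⟶ (↑U : Scheme.{u}) := IsOpenImmersion.lift U.ι g (by
    rw [Scheme.Opens.range_ι]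
    rintro _ ⟨x, rfl⟩
    exact hX (g x))
  let u' := (Scheme.Modules.pullbackPushforwardAdjunction g).homEquiv E L s
  let w : Fin (r + 1) → Γ(L, ⊤) := fun i => L.presheaf.map (homOfLE htop).op (u'.app (U₀ U) (bas e i))
  refine ⟨g', w, IsOpenImmersion.lift_fac _ _ _, fun x => ?_, fun i => ?_⟩
  · obtain ⟨i, hi⟩ := gen_cover_of_epi (π := g) (O1 := L) (q := s) e hL hs x (hX (g x))
    refine ⟨i, (mem_gen_iff hL _ _).2 ?_⟩
    refine (congrArg Function.Bijective (funext fun c => congrArg (c • ·) ?_)).mp (hi (htop trivial))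
    show L.presheaf.germ _ x _ (vP s e i) =
      L.presheaf.germ ⊤ x trivial (L.presheaf.map (homOfLE htop).op (u'.app (U₀ U) (bas e i)))
    rw [TopCat.Presheaf.germ_res_apply]
    exact congrArg _ (H11Sym.homEquiv_app_apply g s (U₀ U) (bas e i)).symm
  · exact ((H10Coh.mres_mres L _ _ _).trans (H10Coh.mres_self L _ _)).symm

/-- `P^n_Y` with `O(1)` is the bundle of the free module of rank `n + 1`. -/
theorem exists_isProjBundle (n : ℕ) (Y : Scheme.{u}) :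
    ∃ q : (Scheme.Modules.pullback (KRR.pr n Y)).obj (FlatMod.freeMod Y (n + 1)) ⟶ Twist.twistOver n Y 1,
      KRR.IsProjBundle (KRR.pr n Y) (FlatMod.freeMod Y (n + 1)) (Twist.twistOver n Y 1) q := by
  let U : Y.Opens := ⊤
  let E := FlatMod.freeMod Y (n + 1)
  let e : E.restrict U.ι ≅ FlatMod.freeMod (↑U : Scheme.{u}) (n + 1) :=
    (Scheme.Modules.restrictFunctorIsoPullback U.ι).app E ≪≫ H16Derived.KFlat.Stalk.freeModPullbackIso U.ι (n + 1)
  let O := Twist.twistOver n Y 1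
  have hO : PicF.IsInvertible O := Groth.Agent.H22Alg.RegSheaf.isInvertible_twistOver 1
  let p' : KRR.PY n Y ⟶ (↑U : Scheme.{u}) := IsOpenImmersion.lift U.ι (KRR.pr n Y) (by
    rw [Scheme.Opens.range_ι]
    intro y _
    trivial)
  have hp' : p' ≫ U.ι = KRR.pr n Y := IsOpenImmersion.lift_fac _ _ _
  obtain ⟨u₁, hu₁⟩ := exists_push (E := E) e p' (crd n Y)
  have hepi₁ := epi_of_gen (E := E) e p' (crd n Y) (crd_cover n Y) u₁ hu₁
  have key : ∀ (p : KRR.PY n Y ⟶ Y) (_ : p' ≫ U.ι = p),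
      ∃ q : (Scheme.Modules.pullback p).obj E ⟶ O, Epi q ∧
        ∀ i, q.app (p ⁻¹ᵁ U₀ U) (OmegaSh.pullSect p E (U₀ U) (bas e i)) =
          O.presheaf.map (homOfLE (le_top : p ⁻¹ᵁ U₀ U ≤ ⊤)).op (crd n Y i) := by
    rintro _ rfl
    refine ⟨((Scheme.Modules.pullbackPushforwardAdjunction _).homEquiv E O).symm u₁, hepi₁, fun i => ?_⟩
    rw [← H11Sym.homEquiv_app_apply, Equiv.apply_symm_apply]
    exact hu₁ i
  obtain ⟨q, hqepi, hq⟩ := key _ hp'
  have hU0 : (⊤ : (KRR.PY n Y).Opens) ≤ KRR.pr n Y ⁻¹ᵁ U₀ U := fun x _ => (U.ι_image_top).ge trivial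
  refine ⟨q, ⟨rank_one_of_isInvertible hO, hqepi, fun T g L hL s hs => ?_⟩⟩
  obtain ⟨g', w, hg', hw, hu⟩ := epi_and_univ (π := KRR.pr n Y) e (fun _ => trivial) (fun _ => trivial) g
    (isInvertible_of_rank_one hL) s hs
  have hvP : ∀ i, vP q e i = O.presheaf.map (homOfLE le_top).op (crd n Y i) := hq
  have hMt : ∀ h : T ⟶ KRR.PY n Y, Mt h (vP q e) L w ↔ Mt h (S := ⊤) (crd n Y) L w := by
    intro h
    have e1 : ∀ (hS : ⊤ ≤ h ⁻¹ᵁ (KRR.pr n Y ⁻¹ᵁ U₀ U)) i, pt h hS (vP q e i) = pt h (S := ⊤) le_rfl (crd n Y i) :=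
      fun hS i => by
        rw [hvP, pt, pt, pullSect_res]
        exact H10Coh.mres_mres _ _ _ _
    exact ⟨fun ⟨hS, τ, hτ⟩ => ⟨le_rfl, τ, fun i => (congrArg _ (e1 hS i)).symm.trans (hτ i)⟩,
      fun ⟨_, τ, hτ⟩ => ⟨fun y _ => hU0 trivial, τ, fun i => (congrArg _ (e1 (fun y _ => hU0 trivial) i)).trans (hτ i)⟩⟩
  obtain ⟨h, hhπ, hhm⟩ := exists_pn (U := Y) g (isInvertible_of_rank_one hL) w hw
  subst hg'
  have hquot := fun (h' : T ⟶ KRR.PY n Y) (hh : h' ≫ KRR.pr n Y = g' ≫ U.ι) =>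
    quot_iff (π := KRR.pr n Y) (q := q) e g' w
      ((Scheme.Modules.pullbackPushforwardAdjunction (g' ≫ U.ι)).homEquiv E L s) hu h' hh
  simp only [Equiv.symm_apply_apply] at hquot
  refine ⟨h, ⟨hhπ, (hquot h hhπ).2 ((hMt h).2 hhm)⟩, fun h' ⟨hh', hτ⟩ => ?_⟩
  exact pn_ext (hh'.trans hhπ.symm) ((hMt h').1 ((hquot h' hh').1 hτ)) hhm

end Groth.Agent.H7Euler.Trivial

end
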