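import Groth.Agent.H7Euler.Main
import Groth.Agent.H7Euler.Trivial
import Groth.Agent.H17.PrinOmega
import Groth.Agent.H17.FLI.DetSES
import Groth.Agent.H17.FLI.TopForms
import Groth.Agent.H22Alg.ExtPowTwist
import Groth.Agent.H22Alg.KExists
import Groth.Agent.H10Coh.ExtPowFree
import Groth.Agent.H22Alg.PB.Twist
import Groth.Agent.H28Pinch.FreeBasisIso
import Groth.Agent.H28RR.Omega
import Groth.Agent.H26Smooth.ProjSmooth
import Groth.Agent.H3CAlg.EtaEtale

/-!
# The canonical sheaf of projective space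
-/

set_option autoImplicit false
set_option linter.style.haveILetI false

universe u

open CategoryTheory CategoryTheory.Limits AlgebraicGeometry Opposite TopologicalSpace
attribute [local instance] Groth.Agent.H28Vert.picLaw

noncomputable section

namespace Groth.Agent.H7Euler.Canonical

open H10Coh

theorem rank_tensor {X : Scheme.{u}} {E M : X.Modules} {n : ℕ} (hE : FlatMod.IsFinLocFreeOfRank n E)
    (hM : PicF.IsInvertible M) : FlatMod.IsFinLocFreeOfRank n (CohB1.tensorMod E M) := fun x => by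
  obtain ⟨U, hxU, ⟨e⟩⟩ := hE x
  obtain ⟨V, g, hxV, hg⟩ := H11Ample.exists_gen hM x
  obtain ⟨m, hm⟩ := H28Pinch.exists_isBasisOn_of_chart E e
  let W := U ⊓ V
  have hb : H28Pinch.IsBasisOn (CohB1.tensorMod E M) (U := W) fun j =>
      H11Ample.tm (E.presheaf.map (homOfLE (inf_le_left : W ≤ U)).op (m j))
        (M.presheaf.map (homOfLE (inf_le_right : W ≤ V)).op g) := by
    intro O hO
    have h1 := (H22Alg.ExtPowTwist.bijective_tmL E (hg.res (hO.trans inf_le_right))).comp (hm O (hO.trans inf_le_left))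
    refine (congrArg Function.Bijective (funext fun c => ?_)).mp h1
    refine (map_sum (H22Alg.ExtPowTwist.tmL E _) _ _).trans (Finset.sum_congr rfl fun j _ => ?_)
    rw [map_smul]
    refine congrArg (c j • ·) ?_
    show H11Ample.tm _ _ = (CohB1.tensorMod E M).presheaf.map (homOfLE hO).op (H11Ample.tm _ _)
    rw [H11Ample.tm_res, H10Coh.mres_mres, H10Coh.mres_mres]
  exact ⟨W, ⟨hxU, hxV⟩, H28Pinch.nonempty_chart_of_isBasisOn hb⟩

theorem smoothOfRelDim_toSpec (n : ℕ) (R : Type u) [CommRing R] :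
    SmoothOfRelativeDimension n (CohB1.ProjSpace.toSpec n R) := by
  classical
  refine IsZariskiLocalAtSource.of_openCover (P := @SmoothOfRelativeDimension n)
    (Groth.Agent.H26Smooth.stdCover n R).openCover fun i => ?_
  have h : SmoothOfRelativeDimension n
      (Spec.map (CommRingCat.ofHom ((Groth.Agent.H11Proj.ProjSpace.chartMap n R i).comp MvPolynomial.C))) := by
    refine (HasRingHomProperty.Spec_iff (P := @SmoothOfRelativeDimension n)).2 ?_
    refine RingHom.locally_of RingHom.isStandardSmoothOfRelativeDimension_respectsIso _ ?_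
    haveI := Groth.Agent.H3CAlg.EtaEtale.isStandardSmooth_mvPolynomial R n
    let ec : Fin n ≃ {j : Fin (n + 1) // j ≠ i} :=
      (Fintype.equivFinOfCardEq (by simp [Fintype.card_subtype_compl])).symm
    let e := (MvPolynomial.renameEquiv R ec).toRingEquiv.trans
      (RingEquiv.ofBijective _ (Groth.Agent.H11Proj.ProjSpace.chartMap_bijective n R i))
    show RingHom.IsStandardSmoothOfRelativeDimension n
      ((Groth.Agent.H11Proj.ProjSpace.chartMap n R i).comp MvPolynomial.C)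
    rw [show (Groth.Agent.H11Proj.ProjSpace.chartMap n R i).comp MvPolynomial.C =
      e.toRingHom.comp (algebraMap R (MvPolynomial (Fin n) R)) from RingHom.ext fun r => by
        simp [e, MvPolynomial.algebraMap_eq]]
    exact RingHom.isStandardSmoothOfRelativeDimension_respectsIso.1 _ e
      ((RingHom.isStandardSmoothOfRelativeDimension_algebraMap n).2 inferInstance)
  rw [← Groth.Agent.H11Proj.ProjSpace.awayι_toSpec] at h
  exact h


theorem top_extPow_F {X : Scheme.{u}} : ∀ (r : ℕ) {L : X.Modules}, ExtPow.IsExtPow r (ExtPowFree.F X r) L →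
    Nonempty (L ≅ Coh.structureModule X)
  | 0, L, hL => by
    obtain ⟨e⟩ := H22Alg.ExtPowHom.nonempty_iso (H22Alg.KExists.isExtPow_zero (ExtPowFree.F X 0)) hL
    exact ⟨e.symm⟩
  | r + 1, L, hL => by
    obtain ⟨S, hS, rfl, h₁, h₃⟩ := ExtPowFree.exists_seq r r hL
    haveI := hS.mono_f
    haveI := hS.epi_g
    haveI : IsIso S.g := hS.isIso_g_iff.2 (ExtPowFree.isZero_of_lt r (r + 1) (Nat.lt_succ_self r) h₁)
    obtain ⟨e⟩ := top_extPow_F r h₃
    exact ⟨asIso S.g ≪≫ e⟩

theorem main (Y : Scheme.{u}) [IsLocallyNoetherian Y] (n : ℕ) [QuasiSeparated (CohB1.ProjSpaceOver.toBase n Y)]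
    (L : (CohB1.ProjSpaceOver n Y).Modules)
    (hL : ExtPow.IsExtPow n (Omega.sheaf (CohB1.ProjSpaceOver.toBase n Y)) L) :
    Nonempty (L ≅ Twist.twistOver n Y (-(n : ℤ) - 1)) := by
  haveI := smoothOfRelativeDimension_isStableUnderBaseChange (n := n)
  haveI : SmoothOfRelativeDimension n (CohB1.ProjSpaceOver.toBase n Y) :=
    MorphismProperty.of_isPullback (P := @SmoothOfRelativeDimension n)
      (IsPullback.of_hasPullback _ _) (smoothOfRelDim_toSpec n (ULift.{u} ℤ))
  haveI := SmoothOfRelativeDimension.smooth n (CohB1.ProjSpaceOver.toBase n Y)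
  haveI : IsLocallyNoetherian (KRR.PY n Y) := LocallyOfFiniteType.isLocallyNoetherian (CohB1.ProjSpaceOver.toBase n Y)
  have hΩ : FlatMod.IsFinLocFreeOfRank n (Omega.sheaf (CohB1.ProjSpaceOver.toBase n Y)) :=
    H28RR.isFinLocFreeOfRank_omega _ n
  let π := KRR.pr n Y
  let O := fun d : ℤ => Twist.twistOver n Y d
  let Ω : (KRR.PY n Y).Modules := Omega.sheaf (CohB1.ProjSpaceOver.toBase n Y)
  obtain ⟨q, hPB⟩ := Trivial.exists_isProjBundle n Y
  have hEf : FlatMod.IsFinLocFree (FlatMod.freeMod Y (n + 1)) := H22Alg.KModel.finLocFree_free (n + 1)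
  let d : OmegaSh.Der π Ω := OmegaSh.dOmega _
  haveI := isIso_sff hPB hEf d (H17.PrinOmega.isUniversal_dOmega _)
  haveI := hPB.epi
  obtain ⟨eF⟩ := ExtPowFree.nonempty_iso_freeMod (X := KRR.PY n Y) (n + 1)
  let j : (Scheme.Modules.pullback π).obj (FlatMod.freeMod Y (n + 1)) ≅ ExtPowFree.F (KRR.PY n Y) (n + 1) :=
    H16Derived.KFlat.Stalk.freeModPullbackIso π (n + 1) ≪≫ eF.symm
  let S : ShortComplex (KRR.PY n Y).Modules :=
    ShortComplex.mk (inv (sff d q) ≫ kernel.ι q ≫ j.hom) (j.inv ≫ q) (by simp)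
  have hS : S.ShortExact := by
    have h : (ShortComplex.mk (kernel.ι q) q (kernel.condition q)).ShortExact :=
      { exact := ShortComplex.exact_of_f_is_kernel _ (kernelIsKernel q) }
    exact ShortComplex.shortExact_of_iso (S₁ := ShortComplex.mk (kernel.ι q) q (kernel.condition q)) (S₂ := S)
      (ShortComplex.isoMk (asIso (sff d q)) j (Iso.refl _) (by simp [S]) (by simp [S])) h
  have hO : ∀ a : ℤ, PicF.IsInvertible (O a) := fun a => H22Alg.RegSheaf.isInvertible_twistOver a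
  have hΩq : Coh.IsQCoh Ω :=
    H8Props.FinLocFree.isQCoh_of_isFinLocFree _ fun x => let ⟨U, hx, h⟩ := hΩ x; ⟨U, n, hx, h⟩
  have hA : FlatMod.IsFinLocFreeOfRank n (CohB1.tensorMod Ω (O 1)) :=
    rank_tensor hΩ (hO 1)
  have hAq : Coh.IsQCoh (CohB1.tensorMod Ω (O 1)) :=
    H8Props.FinLocFree.isQCoh_of_isFinLocFree _ fun x => let ⟨U, hx, h⟩ := hA x; ⟨U, n, hx, h⟩
  obtain ⟨LA, hLA⟩ := H22Alg.ExtPowSheaf.exists_isExtPow n hAq
  obtain ⟨LC, hLC⟩ := H22Alg.ExtPowSheaf.exists_isExtPow 1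
    (H8Props.FinLocFree.isQCoh_of_isFinLocFree _ (H28Pinch.isFinLocFree_of_isInvertible (hO 1)))
  obtain ⟨LB, hLB⟩ := H22Alg.ExtPowSheaf.exists_isExtPow (n + 1) (ExtPowFree.isQCoh_F (X := KRR.PY n Y) (n + 1))
  obtain ⟨eD⟩ := H17.FLI.DetSES.nonempty_iso finSumFinEquiv hS hA (ExtPowFree.isQCoh_F (n + 1))
    (H22Alg.PB.rank_one_of_isInvertible (hO 1)) hLA hLB hLC
  obtain ⟨eA⟩ := H22Alg.ExtPowTwist.nonempty_iso hΩq (hO 1) hL hLA
  obtain ⟨eC⟩ := H22Alg.ExtPowHom.nonempty_iso (H22Alg.KExists.isExtPow_one (O 1)) hLC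
  obtain ⟨eB⟩ := top_extPow_F (n + 1) hLB
  have hL1 : PicF.IsInvertible L := H22Alg.PB.isInvertible_of_rank_one (H17.FLI.isInvertible_extPow hΩ hL)
  have hpow := H28Vert.isInvertible_tensorPow (hO 1) n
  have hLn := H11Ample.isInvertible_tensor hL1 hpow
  have key : PicGrp.cls L hL1 * PicGrp.cls (O 1) (hO 1) ^ n * PicGrp.cls (O 1) (hO 1) = 1 := by
    rw [← H28Vert.cls_tensorPow (hO 1) n]
    refine Eq.trans (b := PicGrp.cls _ hLn * PicGrp.cls (O 1) (hO 1)) ?_ ((PicGrp.cls_mul_cls_eq_one_iff hLn (hO 1)).2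
      ⟨PicGrp.tensorModIso eA.symm eC ≪≫ eD ≪≫ eB⟩)
    exact congrArg (· * _) (Subtype.ext (PicGrp.cls_mul_cls_val hL1 hpow))
  refine (PicGrp.cls_eq_cls_iff hL1 (hO _)).1 ?_
  rw [H22Alg.PB.cls_family (H22Alg.PB.isTwistFamily_twistOver n Y) (-(n : ℤ) - 1)]
  rw [mul_assoc, ← pow_succ] at key
  rw [eq_inv_of_mul_eq_one_left key, show (-(n : ℤ) - 1) = -((n + 1 : ℕ) : ℤ) by push_cast; ring, zpow_neg, zpow_natCast]

end Groth.Agent.H7Euler.Canonical

end
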